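import Groth.Agent.HilbertBurch29.Regular
import Groth.Agent.VarietyLib.SmoothStalk

/-!
# Spreading out Hilbert–Burch resolutions
-/

universe u

open Matrix

noncomputable section

namespace Groth.Agent.HilbertBurch29

theorem exists_uniform_smul {A M : Type u} [CommRing A] [AddCommGroup M] [Module A M] (S : Submonoid A)
    {N N' : Submodule A M} (hN : N.FG) (h : ∀ x ∈ N, ∃ t ∈ S, t • x ∈ N') : ∃ t ∈ S, ∀ x ∈ N, t • x ∈ N' := by
  obtain ⟨s, rfl⟩ := hN
  choose t ht htx using fun x : {x // x ∈ s} => h x.1 (Submodule.subset_span x.2)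
  refine ⟨∏ x, t x, prod_mem fun x _ => ht x, fun x hx => ?_⟩
  induction hx using Submodule.span_induction with
  | mem x hx =>
    obtain ⟨c, hc⟩ := Finset.dvd_prod_of_mem t (Finset.mem_univ ⟨x, hx⟩)
    rw [hc, mul_comm, mul_smul]
    exact N'.smul_mem c (htx ⟨x, hx⟩)
  | zero => simp
  | add x y _ _ hx hy => rw [smul_add]; exact add_mem hx hy
  | smul c x _ hx => rw [smul_comm]; exact N'.smul_mem c hx

theorem minors_smul {A : Type u} [CommRing A] {r : ℕ} (c : A) (φ : Matrix (Fin (r + 1)) (Fin r) A)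
    (i : Fin (r + 1)) : minors (c • φ) i = c ^ r * minors φ i := by
  simp [minors, Matrix.submatrix_smul, Matrix.det_smul]
  ring

section Spread

variable {A S : Type u} [CommRing A] [IsNoetherianRing A] [CommRing S] [Algebra A S] (p : Ideal A) [p.IsPrime]
  [IsLocalization.AtPrime S p] (I : Ideal A) {r : ℕ}

theorem exists_spread_data (φS : Matrix (Fin (r + 1)) (Fin r) S)
    (hspan : Ideal.span (Set.range (minors φS)) = I.map (algebraMap A S))
    (hinj : Function.Injective φS.mulVecLin)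
    (hex : LinearMap.range φS.mulVecLin = LinearMap.ker (Fintype.linearCombination S (minors φS))) :
    ∃ (φ : Matrix (Fin (r + 1)) (Fin r) A) (a : A), a ∉ p ∧
      (∀ x ∈ I, a * x ∈ Ideal.span (Set.range (minors φ))) ∧
      (∀ x ∈ Ideal.span (Set.range (minors φ)), a * x ∈ I) ∧
      (∀ v, φ *ᵥ v = 0 → a • v = 0) ∧
      (∀ v, minors φ ⬝ᵥ v = 0 → ∃ x, φ *ᵥ x = a • v) := by
  classical
  obtain ⟨c, hc⟩ := IsLocalization.exist_integer_multiples p.primeCompl
    (Finset.univ : Finset (Fin (r + 1) × Fin r)) (fun ij => φS ij.1 ij.2)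
  choose e he using fun ij : Fin (r + 1) × Fin r => hc ij (Finset.mem_univ _)
  let φ : Matrix (Fin (r + 1)) (Fin r) A := Matrix.of fun i j => e (i, j)
  have hu : IsUnit (algebraMap A S c) := IsLocalization.map_units S c
  have hmap : φ.map (algebraMap A S) = algebraMap A S c • φS := by
    ext i j
    show algebraMap A S (e (i, j)) = _
    rw [he, Matrix.smul_apply, Algebra.smul_def, smul_eq_mul]
  have hmv : ∀ v, φ.map (algebraMap A S) *ᵥ v = algebraMap A S c • (φS *ᵥ v) := fun v => by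
    rw [hmap, Matrix.smul_mulVec]
  have hminors : ∀ i, algebraMap A S (minors φ i) = algebraMap A S c ^ r * minors φS i := fun i => by
    rw [← minors_map, hmap, minors_smul]
  have hspan' : (Ideal.span (Set.range (minors φ))).map (algebraMap A S) = I.map (algebraMap A S) := by
    rw [← hspan, Ideal.map_span, ← Set.range_comp]
    refine le_antisymm (Ideal.span_le.2 ?_) (Ideal.span_le.2 ?_) <;> rintro _ ⟨i, rfl⟩
    · rw [Function.comp_apply, hminors]
      exact Ideal.mul_mem_left _ _ (Ideal.subset_span ⟨i, rfl⟩)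
    · obtain ⟨d, hd⟩ := (hu.pow r).exists_left_inv
      have : minors φS i = d * (algebraMap A S ∘ minors φ) i := by
        rw [Function.comp_apply, hminors, ← mul_assoc, hd, one_mul]
      rw [this]
      exact Ideal.mul_mem_left _ _ (Ideal.subset_span ⟨i, rfl⟩)
  have h1 : ∀ (J K : Ideal A), J.map (algebraMap A S) ≤ K.map (algebraMap A S) → ∃ t ∈ p.primeCompl, ∀ x ∈ J, t • x ∈ K := by
    intro J K h
    refine exists_uniform_smul _ (IsNoetherian.noetherian J) fun x hx => ?_
    obtain ⟨t, ht, htx⟩ := (IsLocalization.algebraMap_mem_map_algebraMap_iff p.primeCompl S K x).1 (h (Ideal.mem_map_of_mem _ hx))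
    exact ⟨t, ht, htx⟩
  obtain ⟨t₁, ht₁, h₁⟩ := h1 I (Ideal.span (Set.range (minors φ))) hspan'.ge
  obtain ⟨t₂, ht₂, h₂⟩ := h1 (Ideal.span (Set.range (minors φ))) I hspan'.le
  obtain ⟨t₃, ht₃, h₃⟩ : ∃ t ∈ p.primeCompl, ∀ v ∈ LinearMap.ker φ.mulVecLin, t • v ∈ (⊥ : Submodule A (Fin r → A)) := by
    refine exists_uniform_smul _ (IsNoetherian.noetherian _) fun v hv => ?_
    have hz : φS *ᵥ (fun j => algebraMap A S (v j)) = 0 := by
      have h : φ.map (algebraMap A S) *ᵥ (fun j => algebraMap A S (v j)) = 0 := by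
        funext i
        refine (RingHom.map_mulVec (algebraMap A S) φ v i).symm.trans ?_
        rw [show φ *ᵥ v = 0 from hv, Pi.zero_apply, map_zero, Pi.zero_apply]
      rw [hmv, hu.smul_eq_zero] at h
      exact h
    have hv0 := hinj (hz.trans (map_zero φS.mulVecLin).symm)
    choose m hm using fun j => (IsLocalization.map_eq_zero_iff p.primeCompl S (v j)).1 (congrFun hv0 j)
    refine ⟨∏ j, (m j : A), prod_mem fun j _ => (m j).2, (Submodule.mem_bot A).2 (funext fun j => ?_)⟩
    obtain ⟨d, hd⟩ := Finset.dvd_prod_of_mem (fun j => (m j : A)) (Finset.mem_univ j)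
    rw [Pi.smul_apply, smul_eq_mul, hd, mul_right_comm, hm j, zero_mul, Pi.zero_apply]
  obtain ⟨t₄, ht₄, h₄⟩ : ∃ t ∈ p.primeCompl, ∀ v ∈ LinearMap.ker (Fintype.linearCombination A (minors φ)),
      t • v ∈ LinearMap.range φ.mulVecLin := by
    refine exists_uniform_smul _ (IsNoetherian.noetherian _) fun v hv => ?_
    have hmem : (fun i => algebraMap A S (v i)) ∈ LinearMap.ker (Fintype.linearCombination S (minors φS)) := by
      rw [LinearMap.mem_ker, Fintype.linearCombination_apply]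
      rw [LinearMap.mem_ker, Fintype.linearCombination_apply] at hv
      have h := congrArg (algebraMap A S) hv
      rw [map_sum, map_zero] at h
      simp only [smul_eq_mul, map_mul, hminors] at h ⊢
      rw [← (hu.pow r).mul_right_eq_zero, Finset.mul_sum]
      refine Eq.trans (Finset.sum_congr rfl fun i _ => ?_) h
      ring
    obtain ⟨y, hy⟩ : (fun i => algebraMap A S (v i)) ∈ LinearMap.range φS.mulVecLin := hex ▸ hmem
    obtain ⟨s, hs⟩ := IsLocalization.exist_integer_multiples p.primeCompl (Finset.univ : Finset (Fin r)) y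
    choose y' hy' using fun j => hs j (Finset.mem_univ _)
    have key : ∀ i, algebraMap A S (((s : A) * c) * v i) = algebraMap A S ((φ *ᵥ y') i) := by
      intro i
      rw [RingHom.map_mulVec (algebraMap A S) φ y' i]
      show _ = (φ.map (algebraMap A S) *ᵥ fun j => algebraMap A S (y' j)) i
      have e : (fun j => algebraMap A S (y' j)) = algebraMap A S (s : A) • y := funext fun j => by
        rw [hy', Pi.smul_apply, Algebra.smul_def, smul_eq_mul]
      rw [hmv, e, Matrix.mulVec_smul, smul_smul, Pi.smul_apply, smul_eq_mul,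
        show (φS *ᵥ y) i = algebraMap A S (v i) from congrFun hy i, map_mul, map_mul]
      ring
    choose m hm using fun i => (IsLocalization.eq_iff_exists p.primeCompl S).1 (key i)
    refine ⟨(∏ i, (m i : A)) * (s * c), mul_mem (prod_mem fun i _ => (m i).2) (mul_mem s.2 c.2),
      ⟨(∏ i, (m i : A)) • y', ?_⟩⟩
    rw [map_smul, Matrix.mulVecLin_apply]
    funext i
    obtain ⟨d, hd⟩ := Finset.dvd_prod_of_mem (fun i => (m i : A)) (Finset.mem_univ i)
    simp only [Pi.smul_apply, smul_eq_mul, hd]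
    linear_combination (-d) * hm i
  refine ⟨φ, t₁ * t₂ * t₃ * t₄, ?_, fun x hx => ?_, fun x hx => ?_, fun v hv => ?_, fun v hv => ?_⟩
  · exact mul_mem (mul_mem (mul_mem ht₁ ht₂) ht₃) ht₄
  · rw [show t₁ * t₂ * t₃ * t₄ * x = (t₂ * t₃ * t₄) * (t₁ • x) by rw [smul_eq_mul]; ring]
    exact Ideal.mul_mem_left _ _ (h₁ x hx)
  · rw [show t₁ * t₂ * t₃ * t₄ * x = (t₁ * t₃ * t₄) * (t₂ • x) by rw [smul_eq_mul]; ring]
    exact Ideal.mul_mem_left _ _ (h₂ x hx)
  · rw [show t₁ * t₂ * t₃ * t₄ = (t₁ * t₂ * t₄) * t₃ by ring, mul_smul,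
      (Submodule.mem_bot A).1 (h₃ v hv), smul_zero]
  · obtain ⟨x, hx⟩ := h₄ v (by
      rw [LinearMap.mem_ker, Fintype.linearCombination_apply]
      rw [← hv]
      exact Finset.sum_congr rfl fun i _ => mul_comm _ _)
    refine ⟨(t₁ * t₂ * t₃) • x, ?_⟩
    rw [Matrix.mulVecLin_apply] at hx
    rw [Matrix.mulVec_smul, hx, smul_smul]

theorem away_of_data (a : A) (B : Type u) [CommRing B] [Algebra A B] [IsLocalization.Away a B]
    (φ : Matrix (Fin (r + 1)) (Fin r) A)
    (h₁ : ∀ x ∈ I, a * x ∈ Ideal.span (Set.range (minors φ)))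
    (h₂ : ∀ x ∈ Ideal.span (Set.range (minors φ)), a * x ∈ I)
    (h₃ : ∀ v, φ *ᵥ v = 0 → a • v = 0)
    (h₄ : ∀ v, minors φ ⬝ᵥ v = 0 → ∃ x, φ *ᵥ x = a • v) :
    Ideal.span (Set.range (minors (φ.map (algebraMap A B)))) = I.map (algebraMap A B) ∧
      Function.Injective (φ.map (algebraMap A B)).mulVecLin ∧
      LinearMap.range (φ.map (algebraMap A B)).mulVecLin =
        LinearMap.ker (Fintype.linearCombination B (minors (φ.map (algebraMap A B)))) := by
  classical
  have ha : IsUnit (algebraMap A B a) := IsLocalization.Away.algebraMap_isUnit a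
  have hm : minors (φ.map (algebraMap A B)) = algebraMap A B ∘ minors φ := funext fun i => minors_map _ φ i
  have hclear : ∀ {n : ℕ} (v : Fin n → B), ∃ (s : B) (v' : Fin n → A), IsUnit s ∧ ∀ i, algebraMap A B (v' i) = s * v i := by
    intro n v
    obtain ⟨c, hc⟩ := IsLocalization.exist_integer_multiples (Submonoid.powers a) (Finset.univ : Finset (Fin n)) v
    choose v' hv' using fun i => hc i (Finset.mem_univ _)
    exact ⟨algebraMap A B c, v', IsLocalization.map_units B c, fun i => by rw [hv', Algebra.smul_def]⟩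
  have hcancel : ∀ {n : ℕ} (w : Fin n → A), (∀ i, algebraMap A B (w i) = 0) → ∃ m : ℕ, a ^ m • w = 0 := by
    intro n w hw
    choose m hm using fun i => (IsLocalization.map_eq_zero_iff (Submonoid.powers a) B (w i)).1 (hw i)
    choose k hk using fun i => (m i).2
    refine ⟨∑ i, k i, funext fun i => ?_⟩
    rw [Pi.smul_apply, smul_eq_mul, ← Finset.sum_erase_add _ _ (Finset.mem_univ i), pow_add,
      show a ^ k i = (m i : A) from hk i, mul_assoc, hm i, mul_zero, Pi.zero_apply]
  refine ⟨?_, ?_, le_antisymm ?_ fun v hv => ?_⟩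
  · rw [hm, Set.range_comp, ← Ideal.map_span]
    refine le_antisymm ?_ ?_ <;> rw [Ideal.map_le_iff_le_comap] <;> intro x hx
    · have h := Ideal.mem_map_of_mem (algebraMap A B) (h₂ x hx)
      rw [map_mul] at h
      exact (Ideal.unit_mul_mem_iff_mem _ ha).1 h
    · have h := Ideal.mem_map_of_mem (algebraMap A B) (h₁ x hx)
      rw [map_mul] at h
      exact (Ideal.unit_mul_mem_iff_mem _ ha).1 h
  · rw [← LinearMap.ker_eq_bot, LinearMap.ker_eq_bot']
    intro v hv
    obtain ⟨s, v', hs, hv'⟩ := hclear v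
    have e : (fun i => algebraMap A B (v' i)) = s • v := funext hv'
    obtain ⟨m, hm'⟩ := hcancel (φ *ᵥ v') fun i => by
      refine (RingHom.map_mulVec (algebraMap A B) φ v' i).trans ?_
      show ((φ.map (algebraMap A B)) *ᵥ fun j => algebraMap A B (v' j)) i = 0
      rw [e, Matrix.mulVec_smul, show (φ.map (algebraMap A B)) *ᵥ v = 0 from hv, smul_zero, Pi.zero_apply]
    have h0 := h₃ (a ^ m • v') (by rw [Matrix.mulVec_smul, hm'])
    funext j
    have h := congrArg (algebraMap A B) (congrFun h0 j)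
    simp only [Pi.smul_apply, smul_eq_mul, map_mul, map_pow, Pi.zero_apply, map_zero, hv'] at h
    exact hs.mul_right_eq_zero.1 ((ha.pow m).mul_right_eq_zero.1 (ha.mul_right_eq_zero.1 h))
  · rintro _ ⟨x, rfl⟩
    rw [LinearMap.mem_ker, Matrix.mulVecLin_apply, Fintype.linearCombination_apply]
    rw [← show minors (φ.map (algebraMap A B)) ⬝ᵥ ((φ.map (algebraMap A B)) *ᵥ x) = 0 by
      rw [Matrix.dotProduct_mulVec, minors_vecMul, zero_dotProduct]]
    exact Finset.sum_congr rfl fun i _ => mul_comm _ _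
  · obtain ⟨s, v', hs, hv'⟩ := hclear v
    obtain ⟨m, hm'⟩ := hcancel (fun _ : Fin 1 => minors φ ⬝ᵥ v') fun _ => by
      rw [LinearMap.mem_ker, Fintype.linearCombination_apply, hm] at hv
      simp only [dotProduct, map_sum, map_mul, hv']
      rw [← mul_zero s, ← hv, Finset.mul_sum]
      exact Finset.sum_congr rfl fun i _ => by simp only [smul_eq_mul, Function.comp_apply, minors, map_mul]; ring
    obtain ⟨x, hx⟩ := h₄ (a ^ m • v') (by
      rw [dotProduct_smul]
      exact congrFun hm' 0)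
    obtain ⟨d, hd⟩ := (ha.mul ((ha.pow m).mul hs)).exists_left_inv
    refine ⟨d • fun j => algebraMap A B (x j), ?_⟩
    rw [map_smul, Matrix.mulVecLin_apply]
    funext i
    rw [Pi.smul_apply, show ((φ.map (algebraMap A B)) *ᵥ fun j => algebraMap A B (x j)) i =
      algebraMap A B ((φ *ᵥ x) i) from (RingHom.map_mulVec (algebraMap A B) φ x i).symm, hx]
    simp only [Pi.smul_apply, smul_eq_mul, map_mul, map_pow, hv']
    linear_combination v i * hd

end Spread

section Scheme

open AlgebraicGeometry CategoryTheory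

theorem ker_stalkMap_eq {X V : Scheme.{u}} (j : X ⟶ V) [IsClosedImmersion j] (x : X) (U : V.affineOpens)
    (hx : j x ∈ U.1) :
    RingHom.ker (j.stalkMap x).hom = (j.ker.ideal U).map (V.presheaf.germ U.1 (j x) hx).hom := by
  have hU : IsAffineOpen U.1 := U.2
  let := V.presheaf.algebra_section_stalk ⟨j x, hx⟩
  have hlocV : IsLocalization.AtPrime (V.presheaf.stalk (j x)) (hU.primeIdealOf ⟨j x, hx⟩).asIdeal :=
    hU.isLocalization_stalk ⟨j x, hx⟩
  have hW : IsAffineOpen (j ⁻¹ᵁ U.1) := hU.preimage j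
  have hx' : x ∈ j ⁻¹ᵁ U.1 := hx
  let := X.presheaf.algebra_section_stalk ⟨x, hx'⟩
  have hlocX : IsLocalization.AtPrime (X.presheaf.stalk x)
      (hW.primeIdealOf ⟨x, hx'⟩).asIdeal := hW.isLocalization_stalk ⟨x, hx'⟩
  refine le_antisymm (fun a ha ↦ ?_) ?_
  · obtain ⟨b, s, rfl⟩ := IsLocalization.exists_mk'_eq (hU.primeIdealOf ⟨j x, hx⟩).asIdeal.primeCompl a
    have h0 : (j.stalkMap x).hom (V.presheaf.germ U.1 (j x) hx b) = 0 := by
      have h1 : algebraMap Γ(V, U.1) (V.presheaf.stalk (j x)) b =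
          IsLocalization.mk' _ b s * algebraMap _ _ (s : Γ(V, U.1)) :=
        (IsLocalization.mk'_spec _ b s).symm
      rw [show V.presheaf.germ U.1 (j x) hx b = algebraMap Γ(V, U.1) _ b from rfl, h1, map_mul,
        RingHom.mem_ker.mp ha, zero_mul]
    rw [show (j.stalkMap x).hom (V.presheaf.germ U.1 (j x) hx b) =
      X.presheaf.germ (j ⁻¹ᵁ U.1) x hx (j.app U.1 b) from
        Scheme.Hom.germ_stalkMap_apply j U.1 x hx b] at h0
    obtain ⟨⟨c, hc⟩, hcb⟩ := (IsLocalization.map_eq_zero_iff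
      (hW.primeIdealOf ⟨x, hx'⟩).asIdeal.primeCompl (X.presheaf.stalk x) _).mp h0
    obtain ⟨c', hc'⟩ := j.app_surjective U.1 hU c
    have hc'u : IsUnit (V.presheaf.germ U.1 (j x) hx c') := by
      refine (isUnit_map_iff (j.stalkMap x).hom _).mp ?_
      rw [show (j.stalkMap x).hom (V.presheaf.germ U.1 (j x) hx c') =
        X.presheaf.germ (j ⁻¹ᵁ U.1) x hx c by
          rw [← hc']; exact Scheme.Hom.germ_stalkMap_apply j U.1 x hx c']
      exact IsLocalization.map_units (X.presheaf.stalk x) (⟨c, hc⟩ : (hW.primeIdealOf ⟨x, hx'⟩).asIdeal.primeCompl)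
    have hmem : c' * b ∈ j.ker.ideal U := by
      rw [Scheme.Hom.ker_apply, RingHom.mem_ker, map_mul]
      simpa [hc'] using hcb
    have h2 := Ideal.mem_map_of_mem (V.presheaf.germ U.1 (j x) hx).hom hmem
    rw [map_mul] at h2
    have h3 := (Ideal.unit_mul_mem_iff_mem _ hc'u).1 h2
    rw [IsLocalization.mk'_eq_mul_mk'_one]
    exact Ideal.mul_mem_right _ _ h3
  · rw [Ideal.map_le_iff_le_comap]
    intro b hb
    rw [Scheme.Hom.ker_apply, RingHom.mem_ker] at hb
    show (j.stalkMap x).hom (V.presheaf.germ U.1 (j x) hx b) = 0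
    rw [show (j.stalkMap x).hom (V.presheaf.germ U.1 (j x) hx b) =
      X.presheaf.germ (j ⁻¹ᵁ U.1) x hx (j.app U.1 b) from
        Scheme.Hom.germ_stalkMap_apply j U.1 x hx b]
    rw [show j.app U.1 b = 0 from hb, map_zero]

theorem exists_affineOpen_resolution (k : Type u) [Field k]
    (X Y : Scheme.{u}) (f : X ⟶ Spec (CommRingCat.of k)) [Smooth f] (ι : Y ⟶ X) [IsClosedImmersion ι]
    (y : Y) (hCM : _root_.LocCoh.IsCohenMacaulayLocalRing (Y.presheaf.stalk y))
    (hcodim : ringKrullDim (Y.presheaf.stalk y) + 2 = ringKrullDim (X.presheaf.stalk (ι.base y))) :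
    ∃ U : X.affineOpens, ι.base y ∈ (U : X.Opens) ∧ ∃ (r : ℕ) (φ : Matrix (Fin (r + 1)) (Fin r) Γ(X, U)),
      Ideal.span (Set.range (minors φ)) = ι.ker.ideal U ∧
        Function.Injective φ.mulVecLin ∧
        LinearMap.range φ.mulVecLin = LinearMap.ker (Fintype.linearCombination Γ(X, U) (minors φ)) := by
  obtain ⟨U₀, hU₀, hyU, -⟩ := exists_isAffineOpen_mem_and_subset (x := ι.base y) (U := ⊤) trivial
  haveI : IsLocallyNoetherian X := LocallyOfFiniteType.isLocallyNoetherian f
  haveI : IsNoetherianRing Γ(X, U₀) := IsLocallyNoetherian.component_noetherian ⟨U₀, hU₀⟩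
  haveI : IsRegularLocalRing (X.presheaf.stalk (ι.base y)) := VarietyLib.isRegularLocalRing_stalk_of_smooth k X f _
  let S := X.presheaf.stalk (ι.base y)
  let K := RingHom.ker (ι.stalkMap y).hom
  let e : (S ⧸ K) ≃+* Y.presheaf.stalk y :=
    RingHom.quotientKerEquivOfSurjective (ι.stalkMap_surjective y)
  haveI : Nontrivial (S ⧸ K) := e.toEquiv.nontrivial
  haveI : IsLocalRing (S ⧸ K) := IsLocalRing.of_surjective' (Ideal.Quotient.mk K) Ideal.Quotient.mk_surjective
  haveI hCMK : _root_.LocCoh.IsCohenMacaulayLocalRing (S ⧸ K) :=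
    { (inferInstance : IsNoetherianRing (S ⧸ K)), (inferInstance : IsLocalRing (S ⧸ K)) with
      supportDim_eq_depth := by
        rw [Module.supportDim_self_eq_ringKrullDim, ringKrullDim_eq_of_ringEquiv e, CAlgH3.depth_ringEquiv e,
          ← Module.supportDim_self_eq_ringKrullDim]
        exact hCM.supportDim_eq_depth }
  obtain ⟨r, φS, hspan, -, hinj, hex⟩ := exists_presentation (A := S) K
    (by rw [ringKrullDim_eq_of_ringEquiv e]; exact hcodim)
  let := X.presheaf.algebra_section_stalk ⟨ι.base y, hyU⟩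
  haveI : IsLocalization.AtPrime S (hU₀.primeIdealOf ⟨ι.base y, hyU⟩).asIdeal :=
    hU₀.isLocalization_stalk ⟨ι.base y, hyU⟩
  obtain ⟨φ, a, ha, h₁, h₂, h₃, h₄⟩ := exists_spread_data (hU₀.primeIdealOf ⟨ι.base y, hyU⟩).asIdeal
    (ι.ker.ideal ⟨U₀, hU₀⟩) φS (hspan.trans (ker_stalkMap_eq ι y ⟨U₀, hU₀⟩ hyU)) hinj hex
  have hyD : ι.base y ∈ X.basicOpen a := by
    rw [Scheme.mem_basicOpen X a (ι.base y) hyU]
    exact (IsLocalization.AtPrime.isUnit_to_map_iff S (hU₀.primeIdealOf ⟨ι.base y, hyU⟩).asIdeal a).2 ha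
  let D : X.affineOpens := X.affineBasicOpen (U := ⟨U₀, hU₀⟩) a
  refine ⟨D, hyD, r, ?_⟩
  letI : Algebra Γ(X, U₀) Γ(X, D) := ((X.presheaf.map (homOfLE (X.basicOpen_le a)).op).hom).toAlgebra
  haveI : IsLocalization.Away a Γ(X, D) := hU₀.isLocalization_basicOpen a
  obtain ⟨hs, hi, he⟩ := away_of_data (ι.ker.ideal ⟨U₀, hU₀⟩) a Γ(X, D) φ h₁ h₂ h₃ h₄
  refine ⟨φ.map (algebraMap Γ(X, U₀) Γ(X, D)), ?_, hi, he⟩
  rw [hs]
  exact ι.ker.map_ideal_basicOpen ⟨U₀, hU₀⟩ a

end Scheme

end Groth.Agent.HilbertBurch29
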