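import Mathlib

/-!
# Signed maximal minors: McCoy, Cramer, and multipliers
-/

universe u v

open Matrix

noncomputable section

namespace Groth.Agent.HilbertBurch29

variable {A : Type u} [CommRing A]

/-- The signed maximal minors of an `(r+1) × r` matrix. -/
abbrev minors {r : ℕ} (φ : Matrix (Fin (r + 1)) (Fin r) A) : Fin (r + 1) → A :=
  fun i : Fin (r + 1) => (-1 : A) ^ (i : ℕ) * (φ.submatrix i.succAbove id).det

theorem minors_map {B : Type v} [CommRing B] (π : A →+* B) {r : ℕ} (φ : Matrix (Fin (r + 1)) (Fin r) A)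
    (i : Fin (r + 1)) : minors (φ.map π) i = π (minors φ i) := by
  simp [minors, RingHom.map_det, RingHom.mapMatrix_apply, Matrix.submatrix_map]

/-- The square matrix with first column `x` followed by `φ`. -/
def bordered {r : ℕ} (x : Fin (r + 1) → A) (φ : Matrix (Fin (r + 1)) (Fin r) A) :
    Matrix (Fin (r + 1)) (Fin (r + 1)) A :=
  Matrix.of fun i c => Fin.cases (x i) (φ i) c

theorem bordered_submatrix {r : ℕ} (x : Fin (r + 1) → A) (φ : Matrix (Fin (r + 1)) (Fin r) A)
    (i : Fin (r + 1)) : (bordered x φ).submatrix i.succAbove Fin.succ = φ.submatrix i.succAbove id := by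
  ext a b
  simp [bordered]

theorem det_bordered {r : ℕ} (x : Fin (r + 1) → A) (φ : Matrix (Fin (r + 1)) (Fin r) A) :
    (bordered x φ).det = ∑ i, x i * minors φ i := by
  rw [Matrix.det_succ_column_zero]
  refine Finset.sum_congr rfl fun i _ => ?_
  rw [bordered_submatrix]
  simp [bordered, minors]
  ring

theorem minors_vecMul {r : ℕ} (φ : Matrix (Fin (r + 1)) (Fin r) A) : minors φ ᵥ* φ = 0 := by
  funext c
  have h : (bordered (fun i => φ i c) φ).det = 0 :=
    Matrix.det_zero_of_column_eq (i := 0) (j := c.succ) (Fin.succ_ne_zero c).symm (fun k => by simp [bordered])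
  rw [det_bordered] at h
  simpa [Matrix.vecMul, dotProduct, mul_comm] using h

/-- Cramer: a row killed by `φ` is proportional to the minors. -/
theorem cross_mul {r : ℕ} (φ : Matrix (Fin (r + 1)) (Fin r) A) {g : Fin (r + 1) → A} (hg : g ᵥ* φ = 0)
    (i j : Fin (r + 1)) : g i * minors φ j = g j * minors φ i := by
  let M := bordered (fun l => if l = j then (1 : A) else 0) φ
  have hdet : M.det = minors φ j := by simp [M, det_bordered]
  have hgM : g ᵥ* M = Pi.single 0 (g j) := by
    funext c
    refine Fin.cases ?_ (fun c => ?_) c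
    · simp [M, bordered, Matrix.vecMul, dotProduct]
    · rw [Pi.single_eq_of_ne (Fin.succ_ne_zero c)]
      simpa [M, bordered, Matrix.vecMul, dotProduct] using congrFun hg c
  have hadj : M.adjugate 0 i = minors φ i := by
    rw [Matrix.adjugate_fin_succ_eq_det_submatrix]
    simp [M, minors, bordered_submatrix, Fin.succAbove_zero]
  have h := congrFun (congrArg (g ᵥ* ·) (Matrix.mul_adjugate M)) i
  simp only [← Matrix.vecMul_vecMul, hgM, Matrix.single_vecMul, hdet, hadj, Pi.smul_apply, Matrix.row_apply,
    Matrix.vecMul_smul, Matrix.vecMul_one, smul_eq_mul] at h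
  rw [h]
  ring

theorem minors_faithful {r : ℕ} {φ : Matrix (Fin (r + 1)) (Fin r) A}
    (hφ : ∀ v, φ *ᵥ v = 0 → v = 0) {b : A} (hb : ∀ i, b * minors φ i = 0) : b = 0 := by
  have P : ∀ (d s : ℕ), s + d = r → ∀ (ρ : Fin s → Fin (r + 1)) (γ : Fin s → Fin r), Function.Injective γ →
      b * (φ.submatrix ρ γ).det = 0 := by
    intro d
    induction d with
    | zero =>
      intro s hs ρ γ hγ
      obtain rfl : s = r := by omega
      by_cases hρ : Function.Injective ρ
      · obtain ⟨i₀, hi₀⟩ : ∃ i₀, ∀ x, ρ x ≠ i₀ := by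
          by_contra hcon
          push Not at hcon
          have := Fintype.card_le_of_surjective ρ hcon
          simp at this
        choose σ hσ using fun x => Fin.exists_succAbove_eq (hi₀ x)
        have hσi : Function.Injective σ := fun a b h => hρ (by rw [← hσ a, ← hσ b, h])
        let σ' := Equiv.ofBijective σ (Finite.injective_iff_bijective.1 hσi)
        let γ' := Equiv.ofBijective γ (Finite.injective_iff_bijective.1 hγ)
        have e : φ.submatrix ρ γ = ((φ.submatrix i₀.succAbove id).submatrix σ' id).submatrix id γ' := by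
          ext a c
          simp [σ', γ', hσ]
        have hmin : b * (φ.submatrix i₀.succAbove id).det = 0 := by
          have := hb i₀
          rw [minors, mul_left_comm] at this
          exact (isUnit_one.neg.pow (i₀ : ℕ)).mul_right_eq_zero.1 this
        rw [e, Matrix.det_permute', Matrix.det_permute, mul_left_comm, mul_left_comm b, hmin, mul_zero, mul_zero]
      · rw [Function.Injective] at hρ
        push Not at hρ
        obtain ⟨a, c, hac, hne⟩ := hρ
        rw [Matrix.det_zero_of_row_eq hne (funext fun x => by simp [hac]), mul_zero]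
    | succ d ih =>
      intro s hs ρ γ hγ
      obtain ⟨j, hj⟩ : ∃ j, ∀ x, γ x ≠ j := by
        by_contra hcon
        push Not at hcon
        have := Fintype.card_le_of_surjective γ hcon
        simp at this
        omega
      let γ₁ : Fin (s + 1) → Fin r := Fin.cons j γ
      have hγ₁ : Function.Injective γ₁ :=
        Fin.cons_injective_iff.2 ⟨fun ⟨x, hx⟩ => hj x hx, hγ⟩
      let c : Fin (s + 1) → A := fun l => b * ((-1) ^ (l : ℕ) * (φ.submatrix ρ (γ₁ ∘ l.succAbove)).det)
      let w : Fin r → A := ∑ l, Pi.single (γ₁ l) (c l)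
      have hw : φ *ᵥ w = 0 := by
        funext i
        have h := ih (s + 1) (by omega) (Fin.cons i ρ) γ₁ hγ₁
        rw [Matrix.det_succ_row_zero, Finset.mul_sum] at h
        simp only [w, Matrix.mulVec_sum, Finset.sum_apply, Matrix.mulVec_single, Pi.zero_apply]
        refine Eq.trans (Finset.sum_congr rfl fun l _ => ?_) h
        have e : (φ.submatrix (Fin.cons i ρ) γ₁).submatrix Fin.succ l.succAbove = φ.submatrix ρ (γ₁ ∘ l.succAbove) := by
          ext x y
          simp
        rw [e]
        simp [c]
        ring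
      have h0 := congrFun (hφ w hw) j
      simp only [w, Finset.sum_apply, Pi.zero_apply] at h0
      rw [Finset.sum_eq_single 0] at h0
      · have e : γ₁ ∘ (0 : Fin (s + 1)).succAbove = γ := by ext x; simp [γ₁]
        simpa [γ₁, c, e] using h0
      · intro l _ hl
        exact Pi.single_eq_of_ne (fun h => hl (hγ₁ (by simpa [γ₁] using h.symm))) _
      · simp
  simpa using P r 0 (by omega) Fin.elim0 Fin.elim0 (fun a => a.elim0)

theorem exists_multiplier [IsNoetherianRing A] {r : ℕ} {φ : Matrix (Fin (r + 1)) (Fin r) A}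
    (hinj : Function.Injective φ.mulVecLin)
    (hex : LinearMap.range φ.mulVecLin = LinearMap.ker (Fintype.linearCombination A (minors φ)))
    {g : Fin (r + 1) → A} (hg : g ᵥ* φ = 0) : ∃ u : A, ∀ i, g i = u * minors φ i := by
  classical
  have hφ : ∀ v, φ *ᵥ v = 0 → v = 0 := fun v hv => hinj (by simpa using hv)
  obtain ⟨a, ha, hanz⟩ : ∃ a ∈ Ideal.span (Set.range (minors φ)), a ∈ nonZeroDivisors A := by
    by_contra hcon
    push Not at hcon
    have hd : Disjoint (Ideal.span (Set.range (minors φ)) : Set A) (nonZeroDivisors A) :=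
      Set.disjoint_left.2 fun x hx => hcon x hx
    obtain ⟨-, x, hx, hx0⟩ := SetLike.lt_iff_le_and_exists.1 (Ideal.bot_lt_annihilator_of_disjoint_nonZeroDivisors hd)
    refine hx0 ((Submodule.mem_bot A).2 (minors_faithful hφ fun i => ?_))
    exact Submodule.mem_annihilator.1 hx _ (Ideal.subset_span ⟨i, rfl⟩)
  obtain ⟨c, hc⟩ := Ideal.mem_span_range_iff_exists_fun.1 ha
  let π := Ideal.Quotient.mk (Ideal.span {a})
  have hred : ∀ v, φ.map π *ᵥ v = 0 → v = 0 := by
    intro v hv
    choose v' hv' using fun i => Ideal.Quotient.mk_surjective (v i)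
    have hmem : ∀ i, ∃ w, w * a = (φ *ᵥ v') i := fun i => by
      refine Ideal.mem_span_singleton'.1 (Ideal.Quotient.eq_zero_iff_mem.1 ?_)
      have := congrFun hv i
      rw [← funext hv'] at this
      exact (RingHom.map_mulVec π φ v' i).trans this
    choose w hw using hmem
    have hw' : φ *ᵥ v' = a • w := funext fun i => by rw [Pi.smul_apply, smul_eq_mul, mul_comm, hw]
    have hker : w ∈ LinearMap.ker (Fintype.linearCombination A (minors φ)) := by
      rw [LinearMap.mem_ker]
      have h0 : Fintype.linearCombination A (minors φ) (φ *ᵥ v') = 0 := by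
        have : φ *ᵥ v' ∈ LinearMap.ker (Fintype.linearCombination A (minors φ)) := hex ▸ ⟨v', rfl⟩
        exact this
      rw [hw', map_smul, smul_eq_mul] at h0
      exact (mem_nonZeroDivisors_iff.1 hanz).1 _ h0
    obtain ⟨z, hz⟩ := (hex ▸ hker : w ∈ LinearMap.range φ.mulVecLin)
    have hv'z : v' = a • z := hinj (by rw [map_smul, hz, Matrix.mulVecLin_apply, hw'])
    funext i
    rw [← hv', hv'z]
    exact Ideal.Quotient.eq_zero_iff_mem.2 (Ideal.mem_span_singleton'.2 ⟨z i, by simp [mul_comm]⟩)
  have hb : π (∑ i, c i * g i) = 0 := by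
    refine minors_faithful hred fun i => ?_
    rw [minors_map, ← map_mul, Ideal.Quotient.eq_zero_iff_mem, Ideal.mem_span_singleton']
    refine ⟨g i, ?_⟩
    rw [← hc, Finset.mul_sum, Finset.sum_mul]
    refine Finset.sum_congr rfl fun l _ => ?_
    rw [mul_left_comm, cross_mul φ hg i l, mul_assoc]
  obtain ⟨u, hu⟩ := Ideal.mem_span_singleton'.1 (Ideal.Quotient.eq_zero_iff_mem.1 hb)
  refine ⟨u, fun i => ?_⟩
  refine sub_eq_zero.1 ((mem_nonZeroDivisors_iff.1 hanz).1 _ ?_)
  have h : g i * a = (∑ l, c l * g l) * minors φ i := by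
    rw [← hc, Finset.mul_sum, Finset.sum_mul]
    refine Finset.sum_congr rfl fun l _ => ?_
    rw [mul_left_comm, cross_mul φ hg i l, mul_assoc]
  rw [mul_sub, mul_comm, h, ← hu]
  ring

end Groth.Agent.HilbertBurch29
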