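import Groth.Agent.CAlgH3.ProjDim
import Groth.Agent.CAlgH3.Depth
import Groth.Agent.HilbertBurch29.Algebra
import Groth.Prelude.Def_CAlg

/-!
# Hilbert–Burch for Cohen–Macaulay quotients of codimension two of regular local rings
-/

universe u

open IsLocalRing Matrix

noncomputable section

namespace Groth.Agent.HilbertBurch29

variable {A : Type u} [CommRing A] [IsRegularLocalRing A]

theorem pd_three (I : Ideal A) [_root_.LocCoh.IsCohenMacaulayLocalRing (A ⧸ I)]
    (hcodim : ringKrullDim (A ⧸ I) + 2 = ringKrullDim A) : CAlgH3.PD A 3 (A ⧸ I) := by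
  refine CAlgH3.pd_of_depth 2 (A ⧸ I) ?_
  have h1 : ringKrullDim (A ⧸ I) = ((_root_.LocCoh.depth A (A ⧸ I) : ℕ∞) : WithBot ℕ∞) := by
    rw [← Module.supportDim_self_eq_ringKrullDim, _root_.LocCoh.IsCohenMacaulayLocalRing.supportDim_eq_depth,
      CAlgH3.depth_quotient_ring]
  have h2 : ((maximalIdeal A).spanFinrank : WithBot ℕ∞) = ringKrullDim A :=
    (isRegularLocalRing_iff A).1 inferInstance
  rw [← WithBot.coe_le_coe, WithBot.coe_add]
  refine le_of_eq ?_
  rw [← h1]
  exact h2.trans hcodim.symm

theorem dim_contra (d : ℕ) (a b : WithBot ℕ∞) (h1 : a + 1 = (d : WithBot ℕ∞)) (h2 : b + 2 = (d : WithBot ℕ∞))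
    (h3 : a ≤ b) : False := by
  induction a using WithBot.recBotCoe with
  | bot => simp at h1
  | coe a =>
    induction b using WithBot.recBotCoe with
    | bot => simp at h2
    | coe b =>
      have h1' : a + 1 = (d : ℕ∞) := WithBot.coe_injective (by push_cast; exact h1)
      have h2' : b + 2 = (d : ℕ∞) := WithBot.coe_injective (by push_cast; exact h2)
      have h3' : a ≤ b := WithBot.coe_le_coe.1 h3
      induction b using ENat.recTopCoe with
      | top => simp at h2'
      | coe b =>
        induction a using ENat.recTopCoe with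
        | top => simp at h1'
        | coe a =>
          have e1 : a + 1 = d := by exact_mod_cast h1'
          have e2 : b + 2 = d := by exact_mod_cast h2'
          have e3 : a ≤ b := by exact_mod_cast h3'
          omega

theorem eq_top_of_le_span_singleton [IsDomain A] (I : Ideal A) (hI0 : I ≠ ⊥) (u : A)
    (hcodim : ringKrullDim (A ⧸ I) + 2 = ringKrullDim A) (hu : I ≤ Ideal.span {u}) : IsUnit u := by
  by_contra hnu
  have hu0 : u ≠ 0 := by
    rintro rfl
    rw [Ideal.span_singleton_zero, le_bot_iff] at hu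
    exact hI0 hu
  have h1 := ringKrullDim_quotient_span_singleton_succ_eq_ringKrullDim_of_mem_nonZeroDivisors
    (mem_nonZeroDivisors_of_ne_zero hu0) (show u ∈ maximalIdeal A from hnu)
  have h2 : ringKrullDim (A ⧸ Ideal.span {u}) ≤ ringKrullDim (A ⧸ I) :=
    ringKrullDim_le_of_surjective (Ideal.Quotient.factor hu) (Ideal.Quotient.factor_surjective hu)
  obtain ⟨d, hd⟩ : ∃ d : ℕ, ringKrullDim A = (d : WithBot ℕ∞) :=
    ⟨(maximalIdeal A).spanFinrank, ((isRegularLocalRing_iff A).1 inferInstance).symm⟩
  rw [hd] at h1 hcodim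
  exact dim_contra d _ _ h1 hcodim h2

theorem exists_presentation (I : Ideal A) [_root_.LocCoh.IsCohenMacaulayLocalRing (A ⧸ I)]
    (hcodim : ringKrullDim (A ⧸ I) + 2 = ringKrullDim A) :
    ∃ (r : ℕ) (φ : Matrix (Fin (r + 1)) (Fin r) A),
      Ideal.span (Set.range (minors φ)) = I ∧
      I.spanFinrank = r + 1 ∧
      Function.Injective φ.mulVecLin ∧
      LinearMap.range φ.mulVecLin = LinearMap.ker (Fintype.linearCombination A (minors φ)) := by
  haveI : IsDomain A := CAlgH3.isDomain_of_isRegularLocalRing A
  have hI0 : I ≠ ⊥ := by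
    rintro rfl
    rw [ringKrullDim_eq_of_ringEquiv (RingEquiv.quotientBot A)] at hcodim
    obtain ⟨d, hd⟩ : ∃ d : ℕ, ringKrullDim A = (d : WithBot ℕ∞) :=
      ⟨(maximalIdeal A).spanFinrank, ((isRegularLocalRing_iff A).1 inferInstance).symm⟩
    rw [hd] at hcodim
    norm_cast at hcodim
    omega
  have hfg : Submodule.FG I := IsNoetherian.noetherian I
  have hfin := Submodule.FG.finite_generators hfg
  haveI := hfin.fintype
  let n := I.spanFinrank
  have hcard : Fintype.card (Submodule.generators I) = n := by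
    rw [← Nat.card_eq_fintype_card, Nat.card_coe_set_eq, Submodule.FG.generators_ncard hfg]
  let e := Fintype.equivFinOfCardEq hcard
  let g : Fin n → A := fun i => (e.symm i : A)
  have hg : Ideal.span (Set.range g) = I := by
    have : Set.range g = Submodule.generators I := by
      ext x
      exact ⟨fun ⟨i, hi⟩ => hi ▸ (e.symm i).2, fun hx => ⟨e ⟨x, hx⟩, by simp [g]⟩⟩
    rw [this]
    exact Submodule.span_generators I
  let L := Fintype.linearCombination A g
  have hLr : LinearMap.range L = I := (Fintype.range_linearCombination A g).trans hg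
  let f : (Fin n → A) →ₗ[A] I := L.codRestrict I (fun v => hLr ▸ LinearMap.mem_range_self L v)
  have hf : Function.Surjective f := by
    rintro ⟨x, hx⟩
    obtain ⟨v, hv⟩ : x ∈ LinearMap.range L := hLr.symm ▸ hx
    exact ⟨v, Subtype.ext hv⟩
  have hker : LinearMap.ker f = LinearMap.ker L := LinearMap.ker_codRestrict _ _ _
  haveI : Module.Free A (LinearMap.ker L) := by
    have h2 : CAlgH3.PD A 2 I := by
      have := (CAlgH3.pd_ker_iff (M := A ⧸ I) (f := I.mkQ) I.mkQ_surjective 1).1 (pd_three I hcodim)
      exact (CAlgH3.pd_congr (LinearEquiv.ofEq _ _ I.ker_mkQ)).1 this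
    have h1 := (CAlgH3.pd_ker_iff hf 0).1 h2
    rw [CAlgH3.pd_one_iff, hker] at h1
    exact Module.free_of_flat_of_isLocalRing
  let bb := Module.finBasis A (LinearMap.ker L)
  have hIrank : Module.finrank A I = 1 := by
    refine le_antisymm ((Submodule.finrank_le I).trans_eq (Module.finrank_self A)) ?_
    haveI : Nontrivial I := Submodule.nontrivial_iff_ne_bot.2 hI0
    exact Module.finrank_pos
  have hr : Module.finrank A (LinearMap.ker L) + 1 = n := by
    have h := (LinearMap.ker L).finrank_quotient_add_finrank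
    rw [L.quotKerEquivRange.finrank_eq, hLr, hIrank, Module.finrank_fin_fun] at h
    omega
  set r := Module.finrank A (LinearMap.ker L) with hrdef
  let g' : Fin (r + 1) → A := g ∘ Fin.cast hr
  let φ : Matrix (Fin (r + 1)) (Fin r) A := Matrix.of fun i c => (bb c : Fin n → A) (Fin.cast hr i)
  have hmv : ∀ x, φ.mulVecLin x = fun i => ((bb.equivFun.symm x : LinearMap.ker L) : Fin n → A) (Fin.cast hr i) := by
    intro x
    funext i
    simp [φ, Matrix.mulVec, dotProduct, Module.Basis.equivFun_symm_apply, mul_comm]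
  have hLg : ∀ v : Fin n → A, Fintype.linearCombination A g' (fun i => v (Fin.cast hr i)) = L v := by
    intro v
    simp only [L, Fintype.linearCombination_apply, g', Function.comp_apply]
    exact Fintype.sum_equiv (finCongr hr) _ _ (fun i => rfl)
  have hinj : Function.Injective φ.mulVecLin := by
    intro x y h
    rw [hmv, hmv] at h
    refine bb.equivFun.symm.injective (Subtype.ext (funext fun i => ?_))
    simpa using congrFun h (Fin.cast hr.symm i)
  have hex : LinearMap.range φ.mulVecLin = LinearMap.ker (Fintype.linearCombination A g') := by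
    refine le_antisymm ?_ fun v hv => ?_
    · rintro _ ⟨x, rfl⟩
      rw [LinearMap.mem_ker, hmv, hLg]
      exact (bb.equivFun.symm x).2
    · have hv' : (fun i => v (Fin.cast hr.symm i)) ∈ LinearMap.ker L := by
        rw [LinearMap.mem_ker, ← hLg]
        simpa using hv
      refine ⟨bb.equivFun ⟨_, hv'⟩, ?_⟩
      rw [hmv, LinearEquiv.symm_apply_apply]
      funext i
      simp
  have hgφ : g' ᵥ* φ = 0 := by
    funext c
    have h := hLg (bb c)
    rw [show L (bb c) = 0 from (bb c).2, Fintype.linearCombination_apply] at h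
    simpa [Matrix.vecMul, dotProduct, φ, mul_comm] using h
  have hφ : ∀ v, φ *ᵥ v = 0 → v = 0 := fun v hv => hinj (by simpa using hv)
  have hgspan : Ideal.span (Set.range g') = I := by
    rw [← hg]
    congr 1
    exact (finCongr hr).surjective.range_comp g
  obtain ⟨i₀, hi₀⟩ : ∃ i, g' i ≠ 0 := by
    by_contra hcon
    push Not at hcon
    refine hI0 (hgspan.symm.trans (Ideal.span_eq_bot.2 ?_))
    rintro _ ⟨i, rfl⟩
    exact hcon i
  have hexf : LinearMap.range φ.mulVecLin = LinearMap.ker (Fintype.linearCombination A (minors φ)) := by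
    have hf₀ : minors φ i₀ ≠ 0 := fun h => one_ne_zero (minors_faithful hφ fun i => by
      have := cross_mul φ hgφ i i₀
      rw [h, mul_zero, eq_comm, mul_eq_zero] at this
      simp [this.resolve_left hi₀])
    refine le_antisymm ?_ fun v hv => ?_
    · rintro _ ⟨x, rfl⟩
      rw [LinearMap.mem_ker, Matrix.mulVecLin_apply, Fintype.linearCombination_apply]
      rw [← show minors φ ⬝ᵥ (φ *ᵥ x) = 0 by rw [Matrix.dotProduct_mulVec, minors_vecMul, zero_dotProduct]]
      exact Finset.sum_congr rfl fun i _ => mul_comm _ _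
    · rw [hex, LinearMap.mem_ker, Fintype.linearCombination_apply]
      rw [LinearMap.mem_ker, Fintype.linearCombination_apply] at hv
      refine (mul_eq_zero.1 ?_).resolve_left hf₀
      rw [Finset.mul_sum]
      calc ∑ i, minors φ i₀ * (v i • g' i) = ∑ i, g' i₀ * (v i • minors φ i) :=
            Finset.sum_congr rfl fun i _ => by
              simp only [smul_eq_mul]
              linear_combination (v i) * cross_mul φ hgφ i i₀
        _ = 0 := by rw [← Finset.mul_sum, hv, mul_zero]
  obtain ⟨u, hu⟩ := exists_multiplier hinj hexf hgφ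
  have hunit : IsUnit u := eq_top_of_le_span_singleton I hI0 u hcodim (by
    rw [← hgspan, Ideal.span_le]
    rintro _ ⟨i, rfl⟩
    exact Ideal.mem_span_singleton'.2 ⟨minors φ i, by rw [hu i, mul_comm]⟩)
  refine ⟨r, φ, ?_, hr.symm, hinj, hexf⟩
  rw [← hgspan]
  refine le_antisymm (Ideal.span_le.2 ?_) (Ideal.span_le.2 ?_) <;> rintro _ ⟨i, rfl⟩
  · obtain ⟨v, hv⟩ := hunit.exists_left_inv
    have : minors φ i = v * g' i := by rw [hu i, ← mul_assoc, hv, one_mul]
    rw [this]
    exact Ideal.mul_mem_left _ _ (Ideal.subset_span ⟨i, rfl⟩)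
  · rw [hu i]
    exact Ideal.mul_mem_left _ _ (Ideal.subset_span ⟨i, rfl⟩)

end Groth.Agent.HilbertBurch29
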