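import Groth.Agent.HilbertBurch29.Lift

/-!
# Deformations of determinantal resolutions
-/

universe u

open Matrix TensorProduct

noncomputable section

namespace Groth.Agent.HilbertBurch29

theorem map_map_vec {A B : Type u} [CommRing A] [CommRing B] (π : A →+* B) {r : ℕ}
    (φ : Matrix (Fin (r + 1)) (Fin r) A) : minors (φ.map π) = fun i => π (minors φ i) :=
  funext fun i => minors_map π φ i

theorem flat_quotient_map (C : Type u) [CommRing C] (J : Ideal C) (A : Type u) [CommRing A] [Algebra C A]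
    [Module.Flat C A] : Module.Flat (C ⧸ J) (A ⧸ J.map (algebraMap C A)) := by
  let e : (C ⧸ J) ⊗[C] A ≃ₗ[C] A ⧸ J.map (algebraMap C A) :=
    (TensorProduct.comm C _ _).trans
      ((Algebra.TensorProduct.quotIdealMapEquivTensorQuot A J).symm.toLinearEquiv.restrictScalars C)
  have hs : Function.Surjective (algebraMap C (C ⧸ J)) := Ideal.Quotient.mk_surjective
  exact Module.Flat.of_linearEquiv (e.extendScalarsOfSurjective hs).symm

section Reduction

variable (C : Type u) [CommRing C] (J : Ideal C) (A : Type u) [CommRing A] [Algebra C A]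

theorem map_reduction (𝔞 : Ideal C) :
    (𝔞.map (Ideal.Quotient.mk J)).map (algebraMap (C ⧸ J) (A ⧸ J.map (algebraMap C A))) =
      (𝔞.map (algebraMap C A)).map (Ideal.Quotient.mk (J.map (algebraMap C A))) := by
  rw [Ideal.map_map, Ideal.map_map]
  rfl

variable [IsLocalRing C] [Module.Flat C A]

theorem cond_of_reduction (hJ : J ≤ IsLocalRing.maximalIdeal C) {r : ℕ} (φ : Matrix (Fin (r + 1)) (Fin r) A)
    (g : Fin (r + 1) → A)
    [Module.Flat (C ⧸ J) ((A ⧸ J.map (algebraMap C A)) ⧸
      Ideal.span (Set.range fun i => Ideal.Quotient.mk (J.map (algebraMap C A)) (g i)))]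
    (hinj : Function.Injective (φ.map (Ideal.Quotient.mk (J.map (algebraMap C A)))).mulVecLin)
    (hex : LinearMap.range (φ.map (Ideal.Quotient.mk (J.map (algebraMap C A)))).mulVecLin =
      LinearMap.ker (Fintype.linearCombination (A ⧸ J.map (algebraMap C A))
        (fun i => Ideal.Quotient.mk (J.map (algebraMap C A)) (g i)))) :
    Cond φ g ((IsLocalRing.maximalIdeal C).map (algebraMap C A)) := by
  haveI := flat_quotient_map C J A
  refine Cond.pull (Ideal.Quotient.mk (J.map (algebraMap C A))) Ideal.Quotient.mk_surjective _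
    (by rw [Ideal.mk_ker]; exact Ideal.map_mono hJ) ?_
  rw [← map_reduction]
  exact cond_of_exact ((IsLocalRing.maximalIdeal C).map (Ideal.Quotient.mk J)) hinj hex

end Reduction

/-- Flat deformations of a determinantal ideal are determinantal. -/
theorem exists_resolution (C : Type u) [CommRing C] [IsLocalRing C] [IsArtinianRing C] (A : Type u) [CommRing A]
    [Algebra C A] [Module.Flat C A] [IsNoetherianRing A] (𝔞 : Ideal C) (h𝔞 : 𝔞 ≤ IsLocalRing.maximalIdeal C)
    (I : Ideal A) [Module.Flat C (A ⧸ I)] {r : ℕ} (φ₀ : Matrix (Fin (r + 1)) (Fin r) (A ⧸ 𝔞.map (algebraMap C A)))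
    (hspan : Ideal.span (Set.range (minors φ₀)) = I.map (Ideal.Quotient.mk (𝔞.map (algebraMap C A))))
    (hinj : Function.Injective φ₀.mulVecLin)
    (hex : LinearMap.range φ₀.mulVecLin = LinearMap.ker (Fintype.linearCombination _ (minors φ₀)))
    (hcond : ∀ (φ : Matrix (Fin (r + 1)) (Fin r) A) (g : Fin (r + 1) → A),
      φ.map (Ideal.Quotient.mk (𝔞.map (algebraMap C A))) = φ₀ →
      (fun i => Ideal.Quotient.mk (𝔞.map (algebraMap C A)) (g i)) = minors φ₀ →
        Cond φ g ((IsLocalRing.maximalIdeal C).map (algebraMap C A))) :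
    ∃ φ : Matrix (Fin (r + 1)) (Fin r) A, φ.map (Ideal.Quotient.mk (𝔞.map (algebraMap C A))) = φ₀ ∧
      Ideal.span (Set.range (minors φ)) = I ∧ Function.Injective φ.mulVecLin ∧
      LinearMap.range φ.mulVecLin = LinearMap.ker (Fintype.linearCombination A (minors φ)) := by
  let π := Ideal.Quotient.mk (𝔞.map (algebraMap C A))
  have hπ : Function.Surjective π := Ideal.Quotient.mk_surjective
  have hjac : 𝔞.map (algebraMap C A) ≤ Ideal.jacobson ⊥ :=
    (Ideal.map_mono h𝔞).trans (map_maximalIdeal_le_jacobson (C := C) (A := A))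
  have hlift : ∀ i, ∃ a ∈ I, π a = minors φ₀ i := fun i =>
    (Ideal.mem_map_iff_of_surjective π hπ).1 (hspan ▸ Ideal.subset_span ⟨i, rfl⟩)
  choose g hgI hgπ using hlift
  have hgspan : Ideal.span (Set.range g) = I := by
    refine span_eq_of_le_sup I 𝔞 hjac g hgI fun x hx => ?_
    have h : π x ∈ (Ideal.span (Set.range g)).map π := by
      rw [Ideal.map_span, ← Set.range_comp]
      have : π ∘ g = minors φ₀ := funext hgπ
      rw [this, hspan]
      exact Ideal.mem_map_of_mem π hx
    obtain ⟨y, hy, hxy⟩ := (Ideal.mem_map_iff_of_surjective π hπ).1 h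
    refine Submodule.mem_sup.2 ⟨y, hy, x - y, ?_, add_sub_cancel y x⟩
    exact Ideal.Quotient.eq.1 hxy.symm
  haveI : Module.Flat C (A ⧸ Ideal.span (Set.range g)) := by rw [hgspan]; infer_instance
  choose φ₁ hφ₁ using fun i c => hπ (φ₀ i c)
  have hcol : ∀ c, g ⬝ᵥ (fun i => φ₁ i c) ∈ 𝔞.map (algebraMap C A) := fun c => by
    rw [← Ideal.Quotient.eq_zero_iff_mem]
    have h := congrFun (minors_vecMul φ₀) c
    simp only [Matrix.vecMul, dotProduct, Pi.zero_apply] at h
    simpa [dotProduct, π, map_sum, ← hgπ, ← hφ₁] using h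
  choose w hw hw' using fun c => exists_syzygy_correction 𝔞 g (fun i => φ₁ i c) (hcol c)
  let φ : Matrix (Fin (r + 1)) (Fin r) A := Matrix.of fun i c => φ₁ i c - w c i
  have hφ : φ.map π = φ₀ := by
    ext i c
    show π (φ₁ i c - w c i) = φ₀ i c
    rw [map_sub, hφ₁, show π (w c i) = 0 from Ideal.Quotient.eq_zero_iff_mem.2 (hw c i), sub_zero]
  have hgφ : g ᵥ* φ = 0 := funext fun c => hw' c
  have hc := hcond φ g hφ (funext hgπ)
  obtain ⟨inj, hexg, -⟩ := exact_of_cond (C := C) hgφ hc
  have hcm := hcond φ (minors φ) hφ (by rw [← map_map_vec, hφ])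
  obtain ⟨-, hexm, -⟩ := exact_of_cond (C := C) (minors_vecMul φ) hcm
  obtain ⟨u, hu⟩ := exists_multiplier inj hexm hgφ
  have hu1 : π (u - 1) = 0 := by
    refine minors_faithful (φ := φ₀) (fun v hv => hinj (by simpa using hv)) fun i => ?_
    have h := congrArg π (hu i)
    rw [hgπ, map_mul, ← minors_map, show φ.map π = φ₀ from hφ] at h
    rw [map_sub, map_one, sub_mul, one_mul, ← h, sub_self]
  have hunit : IsUnit u := by
    have h1 : u - 1 ∈ Ideal.jacobson (⊥ : Ideal A) := hjac (Ideal.Quotient.eq_zero_iff_mem.1 hu1)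
    have h2 := Ideal.mem_jacobson_bot.1 h1 1
    simpa using h2
  refine ⟨φ, hφ, ?_, inj, hexm⟩
  rw [← hgspan]
  refine le_antisymm (Ideal.span_le.2 ?_) (Ideal.span_le.2 ?_) <;> rintro _ ⟨i, rfl⟩
  · obtain ⟨v, hv⟩ := hunit.exists_left_inv
    have : minors φ i = v * g i := by rw [hu i, ← mul_assoc, hv, one_mul]
    rw [this]
    exact Ideal.mul_mem_left _ _ (Ideal.subset_span ⟨i, rfl⟩)
  · rw [hu i]
    exact Ideal.mul_mem_left _ _ (Ideal.subset_span ⟨i, rfl⟩)

end Groth.Agent.HilbertBurch29
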