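import Groth.Agent.FlatCrit.Inj
import Groth.Agent.CAlgH.FlatQuotient
import Groth.Agent.HilbertBurch29.Algebra

/-!
# Lifting resolutions `0 → A^r → A^(r+1) → A` along nilpotent thickenings
-/

universe u

open Matrix

noncomputable section

namespace Groth.Agent.HilbertBurch29

section Cond

variable {A : Type u} [CommRing A] {r n : ℕ}

/-- The complex given by `φ`, `g` is exact modulo `𝔟`. -/
def Cond (φ : Matrix (Fin n) (Fin r) A) (g : Fin n → A) (𝔟 : Ideal A) : Prop :=
  (∀ x : Fin r → A, (∀ i, (φ *ᵥ x) i ∈ 𝔟) → ∀ j, x j ∈ 𝔟) ∧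
    ∀ v : Fin n → A, g ⬝ᵥ v ∈ 𝔟 → ∃ x : Fin r → A, ∀ i, v i - (φ *ᵥ x) i ∈ 𝔟

theorem linearCombination_eq (g : Fin n → A) (v : Fin n → A) : Fintype.linearCombination A g v = g ⬝ᵥ v := by
  simp [Fintype.linearCombination_apply, dotProduct, mul_comm]

theorem cond_bot (φ : Matrix (Fin n) (Fin r) A) (g : Fin n → A) (hinj : Function.Injective φ.mulVecLin)
    (hex : LinearMap.range φ.mulVecLin = LinearMap.ker (Fintype.linearCombination A g)) : Cond φ g ⊥ := by
  refine ⟨fun x hx j => ?_, fun v hv => ?_⟩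
  · have : x = 0 := hinj ((funext fun i => (Submodule.mem_bot A).1 (hx i)).trans (map_zero φ.mulVecLin).symm)
    simp [this]
  · obtain ⟨x, hx⟩ : v ∈ LinearMap.range φ.mulVecLin := by
      rw [hex, LinearMap.mem_ker, linearCombination_eq]
      exact (Submodule.mem_bot A).1 hv
    exact ⟨x, fun i => by rw [← hx, Matrix.mulVecLin_apply, sub_self]; exact zero_mem _⟩

/-- Exactness modulo the image ideal gives exactness modulo the preimage. -/
theorem Cond.pull {B : Type u} [CommRing B] (π : A →+* B) (hπ : Function.Surjective π) (𝔟 : Ideal A)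
    (hker : RingHom.ker π ≤ 𝔟) {φ : Matrix (Fin n) (Fin r) A} {g : Fin n → A}
    (h : Cond (φ.map π) (fun i => π (g i)) (𝔟.map π)) : Cond φ g 𝔟 := by
  have hmem : ∀ a, π a ∈ 𝔟.map π → a ∈ 𝔟 := fun a ha => by
    obtain ⟨b, hb, hab⟩ := (Ideal.mem_map_iff_of_surjective π hπ).1 ha
    have : a - b ∈ RingHom.ker π := by rw [RingHom.mem_ker, map_sub, hab, sub_self]
    simpa using add_mem (hker this) hb
  have hmv : ∀ (x : Fin r → A) i, π ((φ *ᵥ x) i) = (φ.map π *ᵥ fun j => π (x j)) i :=
    fun x i => RingHom.map_mulVec π φ x i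
  refine ⟨fun x hx j => hmem _ (h.1 (fun j => π (x j)) (fun i => ?_) j), fun v hv => ?_⟩
  · rw [← hmv]; exact Ideal.mem_map_of_mem π (hx i)
  · obtain ⟨y, hy⟩ := h.2 (fun i => π (v i)) (by
      have := Ideal.mem_map_of_mem π hv
      simpa [dotProduct] using this)
    choose x hx using fun j => hπ (y j)
    refine ⟨x, fun i => hmem _ ?_⟩
    rw [map_sub, hmv, funext hx]
    exact hy i

theorem dot_mulVec {φ : Matrix (Fin n) (Fin r) A} {g : Fin n → A} (hg : g ᵥ* φ = 0) (x : Fin r → A) :
    g ⬝ᵥ (φ *ᵥ x) = 0 := by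
  rw [Matrix.dotProduct_mulVec, hg, zero_dotProduct]

end Cond

variable {C : Type u} [CommRing C] {A : Type u} [CommRing A] [Algebra C A] {r n : ℕ}

theorem mem_smul_top_pi (𝔞 : Ideal C) (v : Fin n → A) :
    v ∈ (𝔞 • ⊤ : Submodule C (Fin n → A)) ↔ ∀ i, v i ∈ 𝔞.map (algebraMap C A) := by
  constructor
  · intro hv i
    have h := Submodule.mem_map_of_mem (f := (LinearMap.proj i : (Fin n → A) →ₗ[C] A)) hv
    rw [Submodule.map_smul''] at h
    have h' : v i ∈ (𝔞 • ⊤ : Submodule C A) := Submodule.smul_mono le_rfl le_top h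
    rw [Ideal.smul_top_eq_map] at h'
    exact h'
  · intro hv
    rw [← Finset.univ_sum_single v]
    refine Submodule.sum_mem _ fun i _ => ?_
    have h : v i ∈ (𝔞 • ⊤ : Submodule C A) := by rw [Ideal.smul_top_eq_map]; exact hv i
    have h' := Submodule.mem_map_of_mem (f := (LinearMap.single C (fun _ : Fin n => A) i)) h
    rw [Submodule.map_smul''] at h'
    exact Submodule.smul_mono le_rfl le_top h'

theorem exists_syzygy_correction (𝔞 : Ideal C) (g : Fin n → A) [Module.Flat C (A ⧸ Ideal.span (Set.range g))]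
    (v : Fin n → A) (hv : g ⬝ᵥ v ∈ 𝔞.map (algebraMap C A)) :
    ∃ w : Fin n → A, (∀ i, w i ∈ 𝔞.map (algebraMap C A)) ∧ g ⬝ᵥ (v - w) = 0 := by
  let L : (Fin n → A) →ₗ[C] A := (Fintype.linearCombination A g).restrictScalars C
  haveI : Module.Flat C (A ⧸ (Ideal.span (Set.range g)).restrictScalars C) :=
    Module.Flat.of_linearEquiv (Submodule.Quotient.restrictScalarsEquiv C _)
  have h1 : L v ∈ 𝔞 • (Ideal.span (Set.range g)).restrictScalars C := by
    refine Groth.Agent.CAlgH.inf_smul_top_le_of_flat_quotient _ 𝔞 ⟨?_, ?_⟩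
    · show Fintype.linearCombination A g v ∈ Submodule.span A (Set.range g)
      rw [← Fintype.range_linearCombination A g]
      exact ⟨v, rfl⟩
    · rw [Ideal.smul_top_eq_map]
      show Fintype.linearCombination A g v ∈ _
      rw [linearCombination_eq]
      exact hv
  have hr : (Ideal.span (Set.range g)).restrictScalars C = Submodule.map L ⊤ := by
    rw [Submodule.map_top, LinearMap.range_restrictScalars, Fintype.range_linearCombination]
  rw [hr, ← Submodule.map_smul''] at h1
  obtain ⟨w, hw, hw'⟩ := h1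
  refine ⟨w, (mem_smul_top_pi 𝔞 w).1 hw, ?_⟩
  rw [← linearCombination_eq, map_sub, sub_eq_zero]
  exact hw'.symm

theorem cond_of_exact [Module.Flat C A] (𝔞 : Ideal C) {φ : Matrix (Fin n) (Fin r) A} {g : Fin n → A}
    [Module.Flat C (A ⧸ Ideal.span (Set.range g))] (hinj : Function.Injective φ.mulVecLin)
    (hex : LinearMap.range φ.mulVecLin = LinearMap.ker (Fintype.linearCombination A g)) :
    Cond φ g (𝔞.map (algebraMap C A)) := by
  refine ⟨fun x hx => ?_, fun v hv => ?_⟩
  · let L : (Fin n → A) →ₗ[C] A := (Fintype.linearCombination A g).restrictScalars C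
    haveI hflat : Module.Flat C (LinearMap.range L) := by
      have hrange : LinearMap.range L = (Ideal.span (Set.range g)).restrictScalars C := by
        rw [LinearMap.range_restrictScalars, Fintype.range_linearCombination]
      rw [hrange, Module.Flat.iff_lTensor_preserves_injective_linearMap]
      intro X Y _ _ _ _ i hi
      let K := (Ideal.span (Set.range g)).restrictScalars C
      haveI : Module.Flat C (A ⧸ K) := Module.Flat.of_linearEquiv (Submodule.Quotient.restrictScalarsEquiv C _)
      have hj : ∀ (Z : Type u) [AddCommGroup Z] [Module C Z], Function.Injective (K.subtype.rTensor Z) := by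
        intro Z _ _
        exact (LinearMap.lTensor_inj_iff_rTensor_inj Z K.subtype).1
          (LinearMap.lTensor_injective_of_exact_of_flat K.mkQ K.mkQ_surjective K.subtype
            K.injective_subtype (LinearMap.exact_subtype_mkQ K) Z)
      have h2 : Function.Injective (i.lTensor A ∘ K.subtype.rTensor X) :=
        (Module.Flat.lTensor_preserves_injective_linearMap i hi).comp (hj X)
      rw [← LinearMap.coe_comp, LinearMap.lTensor_comp_rTensor, ← LinearMap.rTensor_comp_lTensor,
        LinearMap.coe_comp] at h2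
      exact h2.of_comp
    let P : (Fin r → A) →ₗ[C] (Fin n → A) := φ.mulVecLin.restrictScalars C
    have hk : LinearMap.ker L.rangeRestrict = Submodule.map P ⊤ := by
      rw [LinearMap.ker_rangeRestrict, LinearMap.ker_restrictScalars, ← hex, Submodule.map_top,
        LinearMap.range_restrictScalars]
    have h1 : P x ∈ 𝔞 • LinearMap.ker L.rangeRestrict := by
      rw [← LinearMap.ker_inf_smul_top_eq_smul_of_flat 𝔞 L.rangeRestrict L.surjective_rangeRestrict]
      exact ⟨hk ▸ ⟨x, trivial, rfl⟩, (mem_smul_top_pi 𝔞 _).2 hx⟩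
    rw [hk, ← Submodule.map_smul''] at h1
    obtain ⟨z, hz, hzx⟩ := h1
    obtain rfl : z = x := hinj hzx
    exact (mem_smul_top_pi 𝔞 z).1 hz
  · obtain ⟨w, hw, hw'⟩ := exists_syzygy_correction 𝔞 g v hv
    obtain ⟨x, hx⟩ : v - w ∈ LinearMap.range φ.mulVecLin := by
      rw [hex, LinearMap.mem_ker, linearCombination_eq]; exact hw'
    refine ⟨x, fun i => ?_⟩
    rw [← Matrix.mulVecLin_apply, hx]
    simpa using hw i

section Artinian

variable [IsLocalRing C] [IsArtinianRing C]

local notation "𝔪" => IsLocalRing.maximalIdeal C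

theorem map_maximalIdeal_le_jacobson : (𝔪).map (algebraMap C A) ≤ Ideal.jacobson ⊥ := by
  rw [Ideal.map_le_iff_le_comap]
  intro a ha
  obtain ⟨N, hN⟩ := IsArtinianRing.isNilpotent_jacobson_bot (R := C)
  have hnil : a ^ N = 0 := by
    have : a ∈ Ideal.jacobson (⊥ : Ideal C) := by rwa [IsLocalRing.jacobson_eq_maximalIdeal ⊥ bot_ne_top]
    have h := Ideal.pow_mem_pow this N
    rwa [hN] at h
  rw [Ideal.mem_comap]
  rw [Ideal.mem_jacobson_bot]
  intro y
  exact IsNilpotent.isUnit_add_one ⟨N, by rw [mul_pow, ← map_pow, hnil, map_zero, zero_mul]⟩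

theorem lTensor_residue_injective {N M : Type u} [AddCommGroup N] [Module C N] [AddCommGroup M] [Module C M]
    (f : N →ₗ[C] M) (h : ∀ x, f x ∈ (𝔪 • ⊤ : Submodule C M) → x ∈ (𝔪 • ⊤ : Submodule C N)) :
    Function.Injective (f.lTensor (IsLocalRing.ResidueField C)) := by
  rw [← LinearMap.ker_eq_bot, LinearMap.ker_eq_bot']
  intro z hz
  obtain ⟨x, rfl⟩ := TensorProduct.mk_surjective C N (IsLocalRing.ResidueField C) Ideal.Quotient.mk_surjective z
  have hx : f x ∈ LinearMap.ker (TensorProduct.mk C (IsLocalRing.ResidueField C) M 1) := hz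
  replace hx : f x ∈ (IsLocalRing.maximalIdeal C • ⊤ : Submodule C M) :=
    (LinearMap.ker_tensorProductMk (Q := M) (I := IsLocalRing.maximalIdeal C)) ▸ hx
  have hx' := h x hx
  have hk : LinearMap.ker (TensorProduct.mk C (IsLocalRing.ResidueField C) N 1) =
      (IsLocalRing.maximalIdeal C • ⊤ : Submodule C N) :=
    LinearMap.ker_tensorProductMk (Q := N) (I := IsLocalRing.maximalIdeal C)
  exact LinearMap.mem_ker.1 (hk ▸ hx')

/-- Exactness modulo the maximal ideal gives exactness and flatness of the cokernel. -/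
theorem exact_of_cond [Module.Flat C A] [IsNoetherianRing A] {φ : Matrix (Fin n) (Fin r) A} {g : Fin n → A}
    (hg : g ᵥ* φ = 0) (h : Cond φ g ((𝔪).map (algebraMap C A))) :
    Function.Injective φ.mulVecLin ∧
      LinearMap.range φ.mulVecLin = LinearMap.ker (Fintype.linearCombination A g) ∧
      Module.Flat C (A ⧸ Ideal.span (Set.range g)) := by
  have hjac := map_maximalIdeal_le_jacobson (C := C) (A := A)
  let P : (Fin r → A) →ₗ[C] (Fin n → A) := φ.mulVecLin.restrictScalars C
  haveI : Module.Flat C (Fin n → A) := Module.Flat.trans C A (Fin n → A)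
  have hP : Function.Injective (P.lTensor (IsLocalRing.ResidueField C)) :=
    lTensor_residue_injective P fun x hx => (mem_smul_top_pi _ x).2 (h.1 x fun i => (mem_smul_top_pi _ _).1 hx i)
  have inj : Function.Injective P := FlatCrit.injective_of_injective_mod_max (S := A) P hP hjac
  let Q := (Fin n → A) ⧸ LinearMap.range φ.mulVecLin
  haveI hQ : Module.Flat C Q := by
    haveI := FlatCrit.flat_coker_of_injective_mod_max (S := A) P hP hjac
    exact Module.Flat.of_linearEquiv (((Submodule.quotEquivOfEq _ _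
      (LinearMap.range_restrictScalars φ.mulVecLin)).trans
        (Submodule.Quotient.restrictScalarsEquiv C _)).symm)
  have hle : LinearMap.range φ.mulVecLin ≤ LinearMap.ker (Fintype.linearCombination A g) := by
    rintro _ ⟨x, rfl⟩
    rw [LinearMap.mem_ker, linearCombination_eq, Matrix.mulVecLin_apply]
    exact dot_mulVec hg x
  let ψA : Q →ₗ[A] A := Submodule.liftQ _ (Fintype.linearCombination A g) hle
  let ψ : Q →ₗ[C] A := ψA.restrictScalars C
  have hψ : Function.Injective (ψ.lTensor (IsLocalRing.ResidueField C)) := by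
    refine lTensor_residue_injective ψ fun z hz => ?_
    obtain ⟨v, rfl⟩ := Submodule.mkQ_surjective _ z
    rw [Ideal.smul_top_eq_map] at hz
    have hz' : Fintype.linearCombination A g v ∈ (𝔪).map (algebraMap C A) := hz
    rw [linearCombination_eq] at hz'
    obtain ⟨x, hx⟩ := h.2 v hz'
    have hm := Submodule.mem_map_of_mem (f := (LinearMap.range φ.mulVecLin).mkQ.restrictScalars C)
      ((mem_smul_top_pi 𝔪 (v - φ *ᵥ x)).2 hx)
    rw [Submodule.map_smul''] at hm
    have e : (LinearMap.range φ.mulVecLin).mkQ (v - φ *ᵥ x) = (LinearMap.range φ.mulVecLin).mkQ v := by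
      rw [map_sub, sub_eq_self]
      exact (Submodule.Quotient.mk_eq_zero _).2 ⟨x, rfl⟩
    rw [← e]
    exact Submodule.smul_mono le_rfl le_top hm
  have hψi : Function.Injective ψ := FlatCrit.injective_of_injective_mod_max (S := A) ψ hψ hjac
  refine ⟨inj, le_antisymm hle fun v hv => ?_, ?_⟩
  · refine (Submodule.Quotient.mk_eq_zero _).1 (hψi ?_)
    rw [map_zero]
    exact hv
  · haveI := FlatCrit.flat_coker_of_injective_mod_max (S := A) ψ hψ hjac
    have e : LinearMap.range ψ = (Ideal.span (Set.range g)).restrictScalars C := by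
      rw [LinearMap.range_restrictScalars, Submodule.range_liftQ, Fintype.range_linearCombination]
    exact Module.Flat.of_linearEquiv ((((Submodule.quotEquivOfEq _ _ e).trans
      (Submodule.Quotient.restrictScalarsEquiv C _))).symm)

end Artinian

/-- Nilpotent Nakayama for generators of an ideal with flat quotient. -/
theorem span_eq_of_le_sup [IsNoetherianRing A] (I : Ideal A) [Module.Flat C (A ⧸ I)] (𝔞 : Ideal C)
    (h𝔞 : 𝔞.map (algebraMap C A) ≤ Ideal.jacobson ⊥) (g : Fin n → A) (hg : ∀ i, g i ∈ I)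
    (hI : I ≤ Ideal.span (Set.range g) ⊔ 𝔞.map (algebraMap C A)) : Ideal.span (Set.range g) = I := by
  have hgI : Ideal.span (Set.range g) ≤ I := Ideal.span_le.2 (by rintro _ ⟨i, rfl⟩; exact hg i)
  refine le_antisymm hgI (Submodule.le_of_le_smul_of_le_jacobson_bot (IsNoetherian.noetherian I) h𝔞 fun x hx => ?_)
  obtain ⟨s, hs, y, hy, rfl⟩ := Submodule.mem_sup.1 (hI hx)
  have hyI : y ∈ I := (I.add_mem_iff_right (hgI hs)).1 hx
  haveI : Module.Flat C (A ⧸ I.restrictScalars C) :=
    Module.Flat.of_linearEquiv (Submodule.Quotient.restrictScalarsEquiv C _)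
  have h := Groth.Agent.CAlgH.inf_smul_top_le_of_flat_quotient (I.restrictScalars C) 𝔞
    ⟨hyI, by rw [Ideal.smul_top_eq_map]; exact hy⟩
  rw [← Ideal.smul_restrictScalars] at h
  exact Submodule.add_mem_sup hs h

end Groth.Agent.HilbertBurch29
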